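import Cfsg.Agent.Lib.FS.Geo2
import Cfsg.Agent.Lib.FS.FH8
import Cfsg.Agent.Lib.Tits.Geo
import Cfsg.Agent.Lib.Tits.Ext1

/-!
# A nilpotent normal supplement of `H` in `B` meets `H` trivially (see `plans/FS.md`)
-/

set_option autoImplicit false

namespace CfsgLib.FS
open Cfsg CfsgLib.Tits CfsgLib.BN CfsgLib.Tits.Gx MulAction

variable {G : Type*} [Group G] {P : BNPair G} {U : Subgroup G}

theorem exists_mul_of_sup (hn : ∀ b ∈ P.B, ∀ u ∈ U, b * u * b⁻¹ ∈ U) (hs : U ⊔ (P.B ⊓ P.N) = P.B) {b : G}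
    (hb : b ∈ P.B) : ∃ u ∈ U, u⁻¹ * b ∈ P.B ⊓ P.N := by
  rw [← hs, Subgroup.sup_eq_closure] at hb
  induction hb using Subgroup.closure_induction with
  | mem x hx =>
    rcases hx with hx | hx
    exacts [⟨x, hx, by simp⟩, ⟨1, one_mem _, by simpa using hx⟩]
  | one => exact ⟨1, one_mem _, by simp⟩
  | mul x y _ _ h1 h2 =>
    obtain ⟨u, hu, h1⟩ := h1
    obtain ⟨v, hv, h2⟩ := h2
    refine ⟨u * (u⁻¹ * x * v * (u⁻¹ * x)⁻¹), mul_mem hu (hn _ h1.1 v hv), ?_⟩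
    convert mul_mem h1 h2 using 1
    group
  | inv x _ h1 =>
    obtain ⟨u, hu, h1⟩ := h1
    refine ⟨(u⁻¹ * x)⁻¹ * u⁻¹ * (u⁻¹ * x)⁻¹⁻¹, hn _ (inv_mem h1.1) _ (inv_mem hu), ?_⟩
    convert inv_mem h1 using 1
    group

theorem H_fix {t : G} (ht : t ∈ P.B ⊓ P.N) (w : W P) : t • ap P w = ap P w :=
  fix_iff.2 (by simpa using (conj_mem_T P (inv_mem (rep_mem P w)) ht).1)

variable (U) in
/-- the conjugate of `U` that belongs to the chamber `x` -/
noncomputable def FU (x : G ⧸ P.B) : Subgroup G := U.comap (MulAut.conj x.out⁻¹).toMonoidHom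

theorem mem_FU (hn : ∀ b ∈ P.B, ∀ u ∈ U, b * u * b⁻¹ ∈ U) {g f : G} : f ∈ FU U (g : G ⧸ P.B) ↔ g⁻¹ * f * g ∈ U := by
  obtain ⟨b, hb⟩ := QuotientGroup.mk_out_eq_mul P.B g
  change (g : G ⧸ P.B).out⁻¹ * f * (g : G ⧸ P.B).out⁻¹⁻¹ ∈ U ↔ _
  rw [hb]
  refine ⟨fun h => ?_, fun h => ?_⟩
  · convert hn _ b.2 _ h using 1
    group
  · convert hn _ (inv_mem b.2) _ h using 1
    group

theorem splB (hU : U ≤ P.B) (hn : ∀ b ∈ P.B, ∀ u ∈ U, b * u * b⁻¹ ∈ U) (hnil : Group.IsNilpotent U)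
    (hs : U ⊔ (P.B ⊓ P.N) = P.B) : SplB (bld P) (FU U) where
  δ g := rho_mem g
  fix x f hf := by
    obtain ⟨g, rfl⟩ := QuotientGroup.mk_surjective x
    exact fix_iff.2 (hU ((mem_FU hn).1 hf))
  conj x k hk f hf := by
    obtain ⟨g, rfl⟩ := QuotientGroup.mk_surjective x
    rw [mem_FU hn] at hf ⊢
    convert hn _ (fix_iff.1 hk) _ hf using 1
    group
  nil x := Group.nilpotent_of_mulEquiv (G := U) (MulEquiv.subgroupCongr (by rw [FU, Subgroup.comap_equiv_eq_map_symm']; rfl) |>.symm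
    |> ((MulAut.conj x.out⁻¹).symm.subgroupMap U).trans)
  trans x y y' e := by
    obtain ⟨g, rfl⟩ := QuotientGroup.mk_surjective x
    obtain ⟨k, rfl⟩ := QuotientGroup.mk_surjective y
    obtain ⟨l, rfl⟩ := QuotientGroup.mk_surjective y'
    obtain ⟨b, hb, c, hc, e1⟩ := exists_of_cell (bld_mk.1 e)
    obtain ⟨b', hb', c', hc', e2⟩ := exists_of_cell (bld_mk.1 (rfl : (bld P).δ g l = _))
    obtain ⟨u, hu, ht⟩ := exists_mul_of_sup hn hs hb
    obtain ⟨u', hu', ht'⟩ := exists_mul_of_sup hn hs hb'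
    refine ⟨g * (u' * u⁻¹) * g⁻¹, (mem_FU hn).2 (by simpa [mul_assoc] using mul_mem hu' (inv_mem hu)),
      QuotientGroup.eq.2 ?_⟩
    have h1 := fix_iff.1 (H_fix ht ((bld P).δ g l))
    have h2 := fix_iff.1 (H_fix ht' ((bld P).δ g l))
    generalize rep P ((bld P).δ g l) = r at e1 e2 h1 h2
    obtain rfl := inv_mul_eq_iff_eq_mul.1 e1
    obtain rfl := inv_mul_eq_iff_eq_mul.1 e2
    convert mul_mem (mul_mem (inv_mem hc) (inv_mem h1)) (mul_mem h2 hc') using 1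
    simp only [smul_eq_mul]
    group

theorem card_R [Fintype (G ⧸ P.B)] (s : P.S) (x : G ⧸ P.B) : Nat.card ((bld P).R {s} x) - 1 = FH.qq s := by
  classical
  have : (bld P).R {s} x = ↑(insert x (Finset.univ.filter fun y => FH.Rel (sW P s) x y)) := by
    ext y
    obtain ⟨g, rfl⟩ := QuotientGroup.mk_surjective x
    obtain ⟨k, rfl⟩ := QuotientGroup.mk_surjective y
    simp [(bld P).mem_R_singleton, bld_mk, FH.rel_mk, exch_s]
  rw [this, Nat.card_coe_set_eq, Set.ncard_coe_finset, Finset.card_insert_of_notMem, FH.card_rel, Nat.add_sub_cancel]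
  simpa using fun h => FH.Rel.ne (sW_ne_one s) h rfl

theorem exists_node (h2 : 2 ≤ P.rank) (hirr : P.Irreducible) (s : P.S) : ∃ t, s ≠ t ∧ (exch P).mat s t ≠ 2 := by
  have : Nontrivial P.S := by
    have := Nat.finite_of_card_ne_zero (α := P.S) (by unfold BNPair.rank at h2; omega)
    exact Finite.one_lt_card_iff_nontrivial.1 h2
  obtain ⟨t, ht⟩ := exists_ne s
  obtain ⟨_, rfl, t, ⟨h1, h3⟩, h⟩ := hirr {s.1} (by simp) (by simp) ⟨t, t.2, fun e => ht (Subtype.ext e)⟩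
  have ne : s ≠ ⟨t, h1⟩ := fun e => h3 (congrArg Subtype.val e).symm
  refine ⟨_, ne, fun e => h ?_⟩
  have e' := (mat_eq_two_iff _ ne).1 e
  have a := P.subset s.2
  have b := P.subset h1
  rw [← cls_eq_one_iff P (mul_mem (mul_mem (mul_mem a b) (inv_mem a)) (inv_mem b)), 
    cls_mul P (mul_mem (mul_mem a b) (inv_mem a)) (inv_mem b), cls_mul P (mul_mem a b) (inv_mem a), cls_mul P a b, cls_inv P a, cls_inv P b]
  change sW P s * sW P ⟨t, h1⟩ * (sW P s)⁻¹ * (sW P ⟨t, h1⟩)⁻¹ = 1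
  rw [show sW P s * sW P ⟨t, h1⟩ = _ from e']
  simp [exch_s]

/-- the elements of `U ⊓ H` fix the panels of the fundamental chamber -/
theorem inf_eq_one [Finite G] (h2 : 2 ≤ P.rank) (hirr : P.Irreducible) (hcore : P.B.normalCore = ⊥) (hU : U ≤ P.B)
    (hn : ∀ b ∈ P.B, ∀ u ∈ U, b * u * b⁻¹ ∈ U) (hnil : Group.IsNilpotent U) (hs : U ⊔ (P.B ⊓ P.N) = P.B) {u : G}
    (hu : u ∈ U) (hN : u ∈ P.N) : u = 1 := by
  have := Fintype.ofFinite (G ⧸ P.B)
  have f := H_fix ⟨hU hu, hN⟩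
  have h1 : rho P u = 1 := by
    refine Bld.aut_eq_one (rho_mem u) (x := ap P 1) (y := ap P (w0 (exch P))) (fun s => ?_) (f _)
      (by rw [isApt, inv_one, one_mul]) (f _)
    obtain ⟨t, ne, ht⟩ := exists_node h2 hirr s
    have m := FH.orderOf_mem ne.symm
    refine (splB hU hn hnil hs).fix_panel ne ?_ (fun h8 x => ?_) ((mem_FU hn).2 ?_) (y := ap P (sW P s))
      (by rw [isApt, inv_one, one_mul, exch_s]) (f _)
    · rcases m with m | m
      exacts [absurd m ht, m]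
    · rw [card_R, card_R, mul_right_comm]
      exact fh8 h8
    · simpa using hn _ (inv_mem rep_one) _ hu
  rw [Subgroup.normalCore_eq_ker] at hcore
  exact Subgroup.mem_bot.1 (hcore ▸ h1)

end CfsgLib.FS
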