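import Cfsg.Agent.Lib.FS.R1A
import Cfsg.Agent.Lib.FS.R1D
import Cfsg.Agent.Lib.Perm.MultiTransBurnside
import Cfsg.Agent.Lib.ZStarApp.Basic
import Cfsg.Agent.Lib.BCor.Str
import Cfsg.Agent.Lib.BenderRed.Final
import Cfsg.Agent.Lib.PDApp.Crit
import Cfsg.Agent.Lib.PDApp.Final

/-!
# Package R1S: split doubly transitive groups of degree `2 ^ a + 1` (see `plans/FS.md`)
-/

set_option autoImplicit false
set_option linter.unusedSectionVars false

namespace CfsgLib.FS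
open Cfsg MulAction

/-- the central involutions of a subgroup, with the identity -/
def cinv {G : Type*} [Group G] (A : Subgroup G) : Subgroup G where
  carrier := {t | t ∈ A ∧ t * t = 1 ∧ ∀ g ∈ A, t * g = g * t}
  one_mem' := ⟨A.one_mem, mul_one 1, fun g _ => by rw [one_mul, mul_one]⟩
  mul_mem' := by
    rintro a b ⟨ha, ha2, ha3⟩ ⟨hb, hb2, hb3⟩
    refine ⟨A.mul_mem ha hb, ?_, fun g hg => ?_⟩
    · calc a * b * (a * b) = a * (b * a) * b := by group
        _ = (a * a) * (b * b) := by rw [hb3 a ha]; group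
        _ = 1 := by rw [ha2, hb2, mul_one]
    · rw [mul_assoc, hb3 g hg, ← mul_assoc, ha3 g hg, mul_assoc]
  inv_mem' := by
    rintro a ⟨ha, ha2, ha3⟩
    rw [inv_eq_of_mul_eq_one_right ha2]
    exact ⟨ha, ha2, ha3⟩

namespace R1
variable {G Ω : Type*} [Group G] [MulAction G Ω] {O : Ω → Subgroup G} (h : R1 O) [Finite G]
include h

theorem cinv_conj (g : G) {w : Ω} {t : G} (ht : t ∈ cinv (O w)) : g * t * g⁻¹ ∈ cinv (O (g • w)) := by
  obtain ⟨h1, h2, h3⟩ := ht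
  refine ⟨h.conj g w t h1, ?_, fun x hx => ?_⟩
  · calc g * t * g⁻¹ * (g * t * g⁻¹) = g * (t * t) * g⁻¹ := by group
      _ = 1 := by rw [h2]; group
  · have := h.conj g⁻¹ _ x hx
    rw [inv_smul_smul, inv_inv] at this
    calc g * t * g⁻¹ * x = g * (t * (g⁻¹ * x * g)) * g⁻¹ := by group
      _ = x * (g * t * g⁻¹) := by rw [h3 _ this]; group

theorem cinv_fix {w u : Ω} {t : G} (ht : t ∈ cinv (O w)) (h1 : t ≠ 1) (hu : t • u = u) : u = w := by
  by_contra hne
  refine h1 (h.faith t fun y => ?_)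
  by_cases hy : y = w
  · rw [hy]; exact h.fix w t ht.1
  obtain ⟨g, hg, rfl⟩ := h.trans w u y hne hy
  rw [← mul_smul, ht.2.2 g hg, mul_smul, hu]

theorem cinv_conj_fix {w : Ω} {t g : G} (ht : t ∈ cinv (O w)) (h1 : t ≠ 1) {u : Ω}
    (hu : (g * t * g⁻¹) • u = u) : u = g • w :=
  h.cinv_fix (h.cinv_conj g ht) (fun e => h1 (by simpa using (MulAut.conj g).map_eq_one_iff.1 e)) hu

theorem exists_cinv (w : Ω) : ∃ t ∈ cinv (O w), t ≠ 1 := by
  have : Fact (Nat.Prime 2) := ⟨Nat.prime_two⟩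
  obtain ⟨y, hy, -⟩ := h.exists_third w w
  obtain ⟨y', hy', hyy⟩ := h.exists_third w y
  obtain ⟨g, hg, e⟩ := h.trans w y y' hy hy'
  have : Nontrivial (O w) := ⟨⟨⟨g, hg⟩, 1, fun e1 => hyy (by
    rw [← e, show g = 1 from congrArg Subtype.val e1, one_smul])⟩⟩
  have := (h.two w).center_nontrivial
  have h2 : 2 ∣ Nat.card (Subgroup.center (O w)) := by
    obtain ⟨n, hn, e⟩ := ((h.two w).to_subgroup (Subgroup.center (O w))).nontrivial_iff_card.1 inferInstance
    rw [e]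
    exact dvd_pow_self 2 hn.ne'
  obtain ⟨z, hz⟩ := exists_prime_orderOf_dvd_card' 2 h2
  refine ⟨z.1.1, ⟨z.1.2, ?_, fun x hx => ?_⟩, fun e => ?_⟩
  · have := pow_orderOf_eq_one z
    rw [hz, pow_two] at this
    exact congrArg (fun x => x.1.1) this
  · exact congrArg Subtype.val (Subgroup.mem_center_iff.1 z.2 ⟨x, hx⟩).symm
  · have : z = 1 := Subtype.ext (Subtype.ext e)
    rw [this, orderOf_one] at hz
    omega

theorem exists_fix {P : Subgroup G} (hP : IsPGroup 2 P) : ∃ u : Ω, ∀ g ∈ P, g • u = u := by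
  have : Fact (Nat.Prime 2) := ⟨Nat.prime_two⟩
  obtain ⟨a, ha, e⟩ := h.card_eq
  obtain ⟨u, hu⟩ := hP.nonempty_fixed_point_of_prime_not_dvd_card Ω (by
    rw [e, Nat.dvd_add_right (dvd_pow_self 2 ha.ne')]; omega)
  exact ⟨u, fun g hg => hu ⟨g, hg⟩⟩

variable (N : Subgroup G) [nN : N.Normal] [IsSimpleGroup N] (hc : ¬ IsMulCommutative N)
include hc

theorem ne_bot_of_simple : N ≠ ⊥ := (Subgroup.nontrivial_iff_ne_bot N).1 inferInstance

theorem exists_cinv_mem (w : Ω) : ∃ t ∈ cinv (O w), t ∈ N ∧ t ≠ 1 := by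
  have : Fact (Nat.Prime 2) := ⟨Nat.prime_two⟩
  by_contra hn
  push Not at hn
  obtain ⟨z, hz, hz1⟩ := h.exists_cinv w
  set M : Subgroup G := (Subgroup.centralizer {QuotientGroup.mk' N z}).comap (QuotientGroup.mk' N) with hM
  have mem : ∀ g, g ∈ M ↔ g * z * g⁻¹ * z⁻¹ ∈ N := fun g => by
    rw [hM, Subgroup.mem_comap, Subgroup.mem_centralizer_singleton_iff, ← QuotientGroup.eq_one_iff,
      ← QuotientGroup.mk'_apply, map_mul, map_mul, map_mul, map_inv, map_inv, mul_inv_eq_one,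
      mul_inv_eq_iff_eq_mul]
  have hzM : z ∈ M := (mem z).2 (by simp)
  have hNM : N ≤ M := fun n hn => (mem n).2 (by
    have := N.mul_mem hn (nN.conj_mem _ (N.inv_mem hn) z)
    simpa [mul_assoc] using this)
  have hz2 : (⟨z, hzM⟩ : M) * ⟨z, hzM⟩ = 1 := Subtype.ext hz.2.1
  obtain ⟨P, hP⟩ := (PDApp.two_zpowers hz2).exists_le_sylow
  have hzP : (⟨z, hzM⟩ : M) ∈ (P : Subgroup M) := hP (Subgroup.mem_zpowers _)
  obtain ⟨u, hu⟩ := h.exists_fix (P.isPGroup'.map M.subtype)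
  obtain rfl : u = w := h.cinv_fix hz hz1 (hu z ⟨_, hzP, rfl⟩)
  have key := ZStarApp.commutator_mem_of_weaklyClosed P hzP fun g hg => by
    have e : u = (g : G) • u := h.cinv_conj_fix hz hz1 (hu _ ⟨_, hg, rfl⟩)
    have h1 := h.cinv_conj g hz
    rw [← e] at h1
    exact Subtype.ext (mul_inv_eq_one.1 (hn _ (mul_mem h1 (inv_mem hz)) ((mem g).1 g.2)))
  rcases (Subgroup.Normal.comap (H := pPrimeCore 2 M) inferInstance (Subgroup.inclusion hNM)).eq_bot_or_eq_top with e | e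
  · refine hz1 (h.eq_one_of_cent N (h.ne_bot_of_simple N hc) (h.fix u z hz.1) fun n hn => ?_)
    have h1 : z * n * z⁻¹ * n⁻¹ ∈ N := N.mul_mem (nN.conj_mem _ hn z) (N.inv_mem hn)
    have h2 : (⟨_, h1⟩ : N) ∈ (pPrimeCore 2 M).comap (Subgroup.inclusion hNM) := key ⟨n, hNM hn⟩
    rw [e, Subgroup.mem_bot] at h2
    have h3 : z * n * z⁻¹ * n⁻¹ = 1 := congrArg Subtype.val h2
    rwa [mul_inv_eq_one, mul_inv_eq_iff_eq_mul] at h3
  · obtain ⟨x, hx⟩ := exists_prime_orderOf_dvd_card' (G := N) 2 (FT.even_card_of_simple hc).two_dvd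
    have h1 : x ∈ (pPrimeCore 2 M).comap (Subgroup.inclusion hNM) := e ▸ Subgroup.mem_top x
    have h2 := PDApp.odd_of_mem_core (Subgroup.mem_comap.1 h1)
    rw [orderOf_injective _ (Subgroup.inclusion_injective hNM), hx] at h2
    exact absurd h2 (by decide)

theorem stab_se (w : Ω) : IsStronglyEmbedded ((stabilizer G w).subgroupOf N) := by
  have : Fact (Nat.Prime 2) := ⟨Nat.prime_two⟩
  obtain ⟨t, ht, htN, ht1⟩ := h.exists_cinv_mem N hc w
  have hH : (stabilizer G w).subgroupOf N ≠ ⊤ := fun e => by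
    obtain ⟨y, hy, -⟩ := h.exists_third w w
    obtain ⟨n, hn, e1⟩ := h.normal_trans N (h.ne_bot_of_simple N hc) w y
    have : (⟨n, hn⟩ : N) ∈ (stabilizer G w).subgroupOf N := e ▸ Subgroup.mem_top _
    exact hy (e1.symm.trans this)
  have ho : orderOf (⟨t, htN⟩ : N) = 2 :=
    orderOf_eq_prime (Subtype.ext (by simpa [pow_two] using ht.2.1)) fun e => ht1 (congrArg Subtype.val e)
  have hA : IsPGroup 2 ((cinv (O w)).subgroupOf N) :=
    ((h.two w).to_le (H := cinv (O w)) fun x hx => hx.1).comap_subtype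
  obtain ⟨S, hS⟩ := hA.exists_le_sylow
  obtain ⟨u, hu⟩ := h.exists_fix (S.isPGroup'.map N.subtype)
  obtain rfl : u = w := h.cinv_fix ht ht1 (hu t ⟨⟨t, htN⟩, hS ht, rfl⟩)
  obtain ⟨H, hse⟩ := PDApp.s1174 PDApp.pdc S ((cinv (O u)).subgroupOf N)
    (fun e => ht1 (congrArg Subtype.val ((Subgroup.eq_bot_iff_forall _).1 e ⟨t, htN⟩ ht)))
    ⟨hS, fun x hx g hg => by
      by_cases hx1 : x = 1
      · simp [hx1]
      have e : u = (g : G) • u := h.cinv_conj_fix hx (fun e => hx1 (Subtype.ext e)) (hu _ ⟨_, hg, rfl⟩)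
      have h1 := h.cinv_conj g hx
      rwa [← e] at h1⟩
    (fun e => hH (top_le_iff.1 (e ▸ iSup_le fun ⟨x, hx, hx2⟩ g hg => by
      have e1 : (g : G) * x = x * g := congrArg Subtype.val (Subgroup.mem_centralizer_singleton_iff.1 hg)
      refine h.cinv_fix (t := x) hx (fun e => ?_) (u := (g : G) • u)
        (by rw [← mul_smul, ← e1, mul_smul, h.fix u x hx.1])
      rw [show x = 1 from Subtype.ext e, orderOf_one] at hx2
      omega)))
  refine ⟨hH, ?_, fun g hg => ?_⟩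
  · rw [even_iff_two_dvd, ← ho]
    exact Subgroup.orderOf_dvd_natCard _ (h.fix u t ht.1)
  · rw [← Nat.not_even_iff_odd, even_iff_two_dvd]
    intro h2
    obtain ⟨⟨x, hx0⟩, hx⟩ := exists_prime_orderOf_dvd_card' 2 h2
    rw [Subgroup.orderOf_mk] at hx
    obtain ⟨hx1, y, hy, rfl⟩ := hx0
    obtain ⟨k, hk⟩ := BCor.se_isConj hse ho hx
    have hk : (k : G) * t * (k : G)⁻¹ = g * y * (g : G)⁻¹ := congrArg Subtype.val hk
    have e1 : u = (k : G) • u := h.cinv_conj_fix ht ht1 (by rw [hk]; exact hx1)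
    have e2 : (g : G) • u = (k : G) • u := h.cinv_conj_fix ht ht1 (by
      rw [hk, mul_smul, mul_smul, inv_smul_smul, show (y : G) • u = u from hy])
    exact hg (e2.trans e1.symm)

theorem exists_reg (w : Ω) : ∃ S : Sylow 2 N, Gold.BType N ∧ O w ≤ (S : Subgroup N).map N.subtype ∧
    ∀ g ∈ O w, ∀ y, y ≠ w → g • y = y → g = 1 := by
  have : Fact (Nat.Prime 2) := ⟨Nat.prime_two⟩
  have h0 := h.ne_bot_of_simple N hc
  have hse := h.stab_se N hc w
  obtain ⟨S, hS⟩ := BCor.str_of_simple BenderRed.benderSimple hc hse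
  have hB : Gold.BType N := BCor.IsB.btype (BenderRed.benderSimple N hc _ hse)
  set S' : Subgroup G := (S : Subgroup N).map N.subtype with hS'
  have two_mem : ∀ x (hx : x ∈ N), x • w = w → (∃ k, x ^ 2 ^ k = 1) → (⟨x, hx⟩ : N) ∈ (S : Subgroup N) := by
    rintro x hx hw ⟨k, hk⟩
    have h1 : IsPGroup 2 (Subgroup.zpowers (⟨x, hx⟩ : N)) := by
      rintro ⟨_, i, rfl⟩
      refine ⟨k, Subtype.ext (Subtype.ext ?_)⟩
      show (x ^ i) ^ 2 ^ k = 1
      rw [← zpow_natCast, ← zpow_mul, mul_comm, zpow_mul, zpow_natCast, hk, one_zpow]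
    have h2 : (⟨x, hx⟩ : N) ∈ Subgroup.zpowers (⟨x, hx⟩ : N) ⊓ Subgroup.normalizer ((S : Subgroup N) : Set N) :=
      ⟨Subgroup.mem_zpowers _, hS.eq ▸ hw⟩
    exact (h1.inf_normalizer_sylow S ▸ h2).2
  have S2 : IsPGroup 2 S' := S.isPGroup'.map _
  have Sfix : ∀ s ∈ S', s • w = w := by
    rintro _ ⟨s, hs, rfl⟩
    exact hS.le_H hs
  have Sconj : ∀ g : G, g • w = w → ∀ s ∈ S', g * s * g⁻¹ ∈ S' := fun g hg s hs => by
    obtain ⟨k, hk⟩ := S2 ⟨s, hs⟩
    have hk : s ^ 2 ^ k = 1 := congrArg Subtype.val hk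
    refine ⟨_, two_mem (g * s * g⁻¹) (nN.conj_mem _ (Subgroup.map_subtype_le _ hs) g) ?_ ⟨k, ?_⟩, rfl⟩
    · rw [mul_smul, mul_smul, inv_smul_eq_iff.2 hg.symm, Sfix s hs, hg]
    · rw [conj_pow, hk, mul_one, mul_inv_cancel]
  have out : ∀ y, y ≠ w → ∃ g : N, g ∉ (stabilizer G w).subgroupOf N ∧ (g : G) • w = y := fun y hy => by
    obtain ⟨n, hn, e⟩ := h.normal_trans N h0 w y
    exact ⟨⟨n, hn⟩, fun e1 => hy (e.symm.trans e1), e⟩
  have Str : ∀ y y', y ≠ w → y' ≠ w → ∃ s ∈ S', s • y = y' := fun y y' hy hy' => by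
    obtain ⟨g, hg, rfl⟩ := out y hy
    obtain ⟨g', hg', rfl⟩ := out y' hy'
    obtain ⟨v, hv, e⟩ := hS.dc g g' hg hg'
    have e : ((g' : G)⁻¹ * (v * g)) • w = w := e
    rw [mul_smul, mul_smul, inv_smul_eq_iff] at e
    exact ⟨v, ⟨v, hv, rfl⟩, e⟩
  have Sreg : ∀ v ∈ (S : Subgroup N), ∀ y, y ≠ w → (v : G) • y = y → v = 1 := fun v hv y hy e => by
    obtain ⟨g, hg, rfl⟩ := out y hy
    refine hS.eq_one_of_conj_mem hv hg (show ((g : G)⁻¹ * v * g) • w = w from ?_)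
    rw [mul_smul, mul_smul, e, inv_smul_smul]
  have O2 : IsPGroup 2 (O w ⊔ S' : Subgroup G) := (h.two w).to_sup_of_normal_right' S2 fun g hg =>
    Subgroup.mem_normalizer_iff.2 fun s => ⟨Sconj g (h.fix w g hg) s, fun hs => by
      simpa [mul_assoc] using Sconj g⁻¹ (h.fix w _ (inv_mem hg)) _ hs⟩
  have Ofix : O w ⊔ S' ≤ stabilizer G w := sup_le (h.fix w) Sfix
  have Oconj : ∀ k : G, k • w = w → O w ⊔ S' ≤ (O w ⊔ S').comap (MulAut.conj k).toMonoidHom := fun k hk =>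
    sup_le (fun x hx => Subgroup.mem_sup_left (by simpa [hk] using h.conj k w x hx))
      fun x hx => Subgroup.mem_sup_right (Sconj k hk x hx)
  have key : ∀ g ∈ O w ⊔ S', ∀ y, y ≠ w → g • y = y → g = 1 := fun g hg y hy e => by
    have hgw : g • w = w := Ofix hg
    have := r1d hB S (MulAut.conjNormal g) (by
      obtain ⟨k, hk⟩ := O2 ⟨g, hg⟩
      exact ⟨k, by rw [← map_pow, show g ^ 2 ^ k = 1 from congrArg Subtype.val hk, map_one]⟩)
      (fun s hs => by
        obtain ⟨s', hs', e⟩ := Sconj g hgw s ⟨s, hs, rfl⟩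
        rwa [show MulAut.conjNormal g s = s' from Subtype.ext e.symm])
      (fun m hm => by
        have hmw : (m : G) • w = w := (hS.eq ▸ hm : m ∈ (stabilizer G w).subgroupOf N)
        obtain ⟨_, ⟨s, hs, rfl⟩, e1⟩ := Str y ((m : G) • y) hy fun e => hy (smul_left_cancel (m : G) (e.trans hmw.symm))
        refine ⟨s, hs, Subtype.ext ?_⟩
        obtain ⟨k, hk⟩ : ∃ k : N, k = s⁻¹ * m := ⟨_, rfl⟩
        rw [← hk]
        have hkw : (k : G) • w = w := by
          rw [hk, Subgroup.coe_mul, mul_smul, hmw]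
          exact Sfix _ ⟨_, inv_mem hs, rfl⟩
        have hky : (k : G) • y = y := by
          rw [hk, Subgroup.coe_mul, mul_smul, ← e1]
          exact inv_smul_smul _ _
        have h1 : g * k * g⁻¹ * k⁻¹ ∈ N := N.mul_mem (nN.conj_mem _ k.2 g) (N.inv_mem k.2)
        have h2 : g * k * g⁻¹ * k⁻¹ ∈ O w ⊔ S' := by
          have := mul_mem hg (Oconj k hkw (inv_mem hg))
          simpa [mul_assoc] using this
        have h3 := Sreg _ (two_mem _ h1 (Ofix h2) (by
          obtain ⟨j, hj⟩ := O2 ⟨_, h2⟩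
          exact ⟨j, congrArg Subtype.val hj⟩)) y hy (by
            show (g * k * g⁻¹ * (k : G)⁻¹) • y = y
            rw [mul_smul, mul_smul, mul_smul, inv_smul_eq_iff.2 hky.symm, inv_smul_eq_iff.2 e.symm, hky, e])
        exact mul_inv_eq_one.1 (congrArg Subtype.val h3))
    refine h.faith g fun u => ?_
    by_cases hu : u = w
    · rw [hu, hgw]
    obtain ⟨_, ⟨s, hs, rfl⟩, rfl⟩ := Str y u hy hu
    have e1 : g * s * g⁻¹ = s := congrArg Subtype.val (this s hs)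
    show g • (s : G) • y = (s : G) • y
    rw [← mul_smul, mul_inv_eq_iff_eq_mul.1 e1, mul_smul, e]
  refine ⟨S, hB, fun g hg => ?_, fun g hg => key g (Subgroup.mem_sup_left hg)⟩
  obtain ⟨y, hy, -⟩ := h.exists_third w w
  obtain ⟨s, hs, e⟩ := Str y (g • y) hy fun e => hy (smul_left_cancel g (e.trans (h.fix w g hg).symm))
  have := key (s⁻¹ * g) (mul_mem (Subgroup.mem_sup_right (inv_mem hs)) (Subgroup.mem_sup_left hg)) y hy (by
    rw [mul_smul, ← e, inv_smul_smul])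
  rwa [← inv_mul_eq_one.1 this]

omit nN hc in
theorem simple (N : Subgroup G) [N.Normal] [IsSimpleGroup N] (hc : ¬ IsMulCommutative N) : R1C O := by
  refine ⟨fun w j hj h2 _ g hg => ?_, Or.inl fun w => ?_⟩
  · obtain ⟨S, hB, hle, -⟩ := h.exists_reg N hc w
    obtain ⟨j, hj', rfl⟩ := hle hj
    obtain ⟨g, hg', rfl⟩ := hle hg
    exact congrArg Subtype.val (hB.central S j hj' (Subtype.ext h2) g hg')
  · obtain ⟨S, -, -, hr⟩ := h.exists_reg N hc w
    exact hr

end R1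

namespace R1
variable {G Ω : Type*} [Group G] [MulAction G Ω] {O : Ω → Subgroup G} (h : R1 O) [Finite G]
include h

theorem main : R1C O := by
  have := h.finite
  have := h.faithful
  have h3 := h.three
  obtain ⟨w⟩ : Nonempty Ω := (Nat.card_pos_iff.1 (by omega)).1
  obtain ⟨t, -, ht⟩ := h.exists_cinv w
  obtain ⟨N, ⟨nN, h0⟩, hmin⟩ := exists_minimal_of_wellFoundedLT (fun N : Subgroup G => N.Normal ∧ N ≠ ⊥)
    ⟨⊤, inferInstance, fun e => ht ((Subgroup.eq_bot_iff_forall _).1 e t (Subgroup.mem_top t))⟩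
  rcases Perm.burnside_minimal_normal h.two_trans N h0 (fun M hM hle => by
    by_cases e : M = ⊥
    · exact Or.inl e
    · exact Or.inr (le_antisymm hle (hmin ⟨hM, e⟩ hle))) with ⟨h1, h2, -⟩ | ⟨h1, -⟩
  · exact h.affine N h0 h1 h2
  by_cases hc : IsMulCommutative N
  · refine h.affine N h0 hc ⟨Nat.card N, ?_, fun m hm => congrArg Subtype.val (pow_card_eq_one' (x := (⟨m, hm⟩ : N)))⟩
    exact Group.is_simple_iff_prime_card.1 h1
  · exact h.simple N hc

end R1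

end CfsgLib.FS
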