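import Cfsg.Agent.Lib.FS.Base3
import Cfsg.Agent.Lib.FS.R1S

/-!
# Package R1L: the action on the neighbours of a vertex in characteristic two (see `plans/FS.md`)
-/

set_option autoImplicit false

namespace CfsgLib.FS
open Cfsg MulAction
open scoped commutatorElement

/-- `R1.main` for an action that need not be faithful -/
theorem r1_nf {H Ω : Type*} [Group H] [Finite H] [MulAction H Ω] {O : Ω → Subgroup H} (three : 3 ≤ Nat.card Ω)
    (two : ∀ w, IsPGroup 2 (O w)) (fix : ∀ w, ∀ g ∈ O w, g • w = w)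
    (conj : ∀ (g : H) w, ∀ x ∈ O w, g * x * g⁻¹ ∈ O (g • w))
    (trans : ∀ w y y', y ≠ w → y' ≠ w → ∃ g ∈ O w, g • y = y') :
    (∀ w, ∀ j ∈ O w, (∀ u : Ω, (j * j) • u = u) → (∀ u, j • u = u → u = w) → ∀ g ∈ O w, ∀ u : Ω,
      (j * g * j⁻¹ * g⁻¹) • u = u) ∧
    ((∀ w, ∀ g ∈ O w, ∀ y, y ≠ w → g • y = y → ∀ u : Ω, g • u = u) ∨ (Nat.card Ω = 9 ∧ ∀ w, ∀ j ∈ O w, ∀ j' ∈ O w,
      (∀ u : Ω, (j * j) • u = u) → (∀ u : Ω, (j' * j') • u = u) → (∀ u, j • u = u → u = w) →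
      (∀ u, j' • u = u → u = w) → ∀ u : Ω, (j⁻¹ * j') • u = u)) := by
  set f := (toPermHom H Ω).rangeRestrict with hf
  have fs : Function.Surjective f := MonoidHom.rangeRestrict_surjective _
  have : Finite (toPermHom H Ω).range := Finite.of_surjective f fs
  have sm : ∀ (g : H) (u : Ω), f g • u = g • u := fun _ _ => rfl
  have faith : ∀ g : (toPermHom H Ω).range, (∀ w : Ω, g • w = w) → g = 1 := fun g hg =>
    Subtype.ext (Equiv.ext hg)
  have one : ∀ g : H, (∀ u : Ω, g • u = u) → f g = 1 := fun g hg => faith _ hg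
  have one' : ∀ g : H, f g = 1 → ∀ u : Ω, g • u = u := fun g hg u => by rw [← sm, hg, one_smul]
  have h : R1 fun w => (O w).map f := by
    refine ⟨faith, three, fun w => (two w).map f, ?_, ?_, fun w y y' hy hy' => ?_⟩
    · rintro w _ ⟨g, hg, rfl⟩
      exact fix w g hg
    · rintro g w _ ⟨x, hx, rfl⟩
      obtain ⟨g, rfl⟩ := fs g
      exact ⟨_, conj g w x hx, by rw [map_mul, map_mul, map_inv]⟩
    · obtain ⟨g, hg, e⟩ := trans w y y' hy hy'
      exact ⟨f g, ⟨g, hg, rfl⟩, e⟩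
  obtain ⟨h1, h2⟩ := h.main
  refine ⟨fun w j hj j2 ju g hg => one' _ ?_, h2.imp (fun h2 w g hg y hy e => one' _ (h2 w _ ⟨g, hg, rfl⟩ y hy e))
    fun h2 => ⟨h2.1, fun w j hj j' hj' j2 j2' ju ju' => one' _ ?_⟩⟩
  · have := h1 w _ ⟨j, hj, rfl⟩ (by rw [← map_mul, one _ j2]) ju _ ⟨g, hg, rfl⟩
    rw [map_mul, map_mul, map_mul, map_inv, map_inv, this.eq]
    group
  · have := h2.2 w _ ⟨j, hj, rfl⟩ _ ⟨j', hj', rfl⟩ (by rw [← map_mul, one _ j2]) (by rw [← map_mul, one _ j2']) ju ju'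
    rw [map_mul, map_inv, this, inv_mul_cancel]

/-- the action of the stabilizer of a vertex on its neighbours -/
@[reducible] def Pol.Au.nbrAction {n : ℕ} {X : Type*} {Γ : Pol n X} {G : Type*} [Group G] [MulAction G X]
    (S : Γ.Au G) (x : X) : MulAction (stabilizer G x) {u // Γ.adj x u} where
  smul g u := ⟨(g : G) • u.1, by
    have := S.smul g u.2
    rwa [show (g : G) • x = x from g.2] at this⟩
  one_smul u := Subtype.ext (one_smul G u.1)
  mul_smul g g' u := Subtype.ext (mul_smul (g : G) g' u.1)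

namespace Pol.SP
variable {n : ℕ} {X : Type*} {Γ : Pol n X} {P : ℤ → X} {G : Type*} [Group G] [MulAction G X]
  {p : ℕ} (S : Γ.SP G p) [Finite G] {x y a b c u u' : X} {e e' g z t : G} {i j k l : ℤ}
include S

theorem r1_local (hp : p = 2) (x : X) : Γ.CI G x ∧ (Γ.Reg G x ∨ Γ.val x = 8 ∧ Γ.UI G x) := by
  subst hp
  let _ := S.toAu.nbrAction x
  have sm : ∀ (g : stabilizer G x) (u : {u // Γ.adj x u}), (g • u).1 = (g : G) • u.1 := fun _ _ => rfl
  have hv := S.toSpl.two_le_val x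
  have hv' : Γ.val x = Nat.card {u // Γ.adj x u} - 1 := rfl
  obtain ⟨h1, h2⟩ := r1_nf (H := stabilizer G x) (Ω := {u // Γ.adj x u})
    (O := fun w => (V G x w.1).subgroupOf (stabilizer G x)) (by omega)
    (fun w => (S.pg x w.1 w.2).comap_subtype) (fun w g hg => Subtype.ext (V_fix' hg))
    (fun g w v hv => by
      have := V_conj (show (v : G) ∈ V G x w.1 from hv) (g : G)
      rwa [show (g : G) • x = x from g.2] at this)
    (fun w y y' hy hy' => by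
      obtain ⟨v, hv, e⟩ := S.toSpl.trans1 w.2 y.2 y'.2 (fun e => hy (Subtype.ext e)) fun e => hy' (Subtype.ext e)
      exact ⟨⟨v, V_fix hv⟩, hv, Subtype.ext e⟩)
  have sq : ∀ {y} {j : G} (hj : j ∈ V G x y), j * j ∈ Γ.Q G x → ∀ u : {u // Γ.adj x u},
      ((⟨j, V_fix hj⟩ : stabilizer G x) * (⟨j, V_fix hj⟩ : stabilizer G x)) • u = u :=
    fun hj h u => Subtype.ext (Q_fix_nbr h u.2)
  have uq : ∀ {y} (hy : Γ.adj x y) {j : G} (hj : j ∈ V G x y), (∀ u, Γ.adj x u → j • u = u → u = y) →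
      ∀ u : {u // Γ.adj x u}, (⟨j, V_fix hj⟩ : stabilizer G x) • u = u → u = ⟨y, hy⟩ :=
    fun hy j hj h u e => Subtype.ext (h u.1 u.2 (congrArg Subtype.val e))
  refine ⟨fun y hy j hj j2 ju g hg => ?_, h2.imp (fun h2 y y' hy hy' ne g hg e => ?_)
    fun h2 => ⟨by omega, fun y hy j hj j' hj' j2 j2' ju ju' => ?_⟩⟩
  · refine S.toSpl.mem_Q_of_fix hy (mul_mem (mul_mem (mul_mem hj hg) (inv_mem hj)) (inv_mem hg)) fun u hu => ?_
    exact congrArg Subtype.val (h1 ⟨y, hy⟩ ⟨j, V_fix hj⟩ hj (sq hj j2) (uq hy hj ju) ⟨g, V_fix hg⟩ hg ⟨u, hu⟩)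
  · refine S.toSpl.mem_Q_of_fix hy hg fun u hu => ?_
    exact congrArg Subtype.val (h2 ⟨y, hy⟩ ⟨g, V_fix hg⟩ hg ⟨y', hy'⟩ (fun e => ne (congrArg Subtype.val e).symm)
      (Subtype.ext e) ⟨u, hu⟩)
  · refine S.toSpl.mem_Q_of_fix hy (mul_mem (inv_mem hj) hj') fun u hu => ?_
    exact congrArg Subtype.val (h2.2 ⟨y, hy⟩ ⟨j, V_fix hj⟩ hj ⟨j', V_fix hj'⟩ hj' (sq hj j2) (sq hj' j2')
      (uq hy hj ju) (uq hy hj' ju') ⟨u, hu⟩)

end Pol.SP

end CfsgLib.FS
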