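import Cfsg.Agent.Lib.FS.N34
import Cfsg.Agent.Lib.FS.N4D
import Cfsg.Agent.Lib.FS.H4
import Cfsg.Agent.Lib.FS.O8
import Cfsg.Agent.Lib.FS.R1L

/-!
# Package MAIN: the groups `V` act regularly on the neighbours (see `plans/FS.md`)
-/

set_option autoImplicit false

namespace CfsgLib.FS
open Cfsg MulAction
open scoped commutatorElement

namespace Pol.SP
variable {n : ℕ} {X : Type*} {Γ : Pol n X} {P : ℤ → X} {G : Type*} [Group G] [MulAction G X]
  {p : ℕ} (S : Γ.SP G p) [Finite G] {x y a b c u u' : X} {e e' g z t : G} {i j k l : ℤ}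
include S

theorem reg_four (hn : n = 4) (x : X) : Γ.Reg G x := by
  by_cases h : ∀ x, Γ.K G 2 x = ⊥
  · exact S.n4_A hn h x
  · obtain ⟨y, hy⟩ := not_forall.1 h
    have hM := S.n4_mou hn hy
    refine S.reg_of_mou hM fun P hP _ d hd v hv => ?_
    refine S.n4_D hn hM (hP.shift (-1)) d (by rwa [S.D_shift hP.1]) v ?_
    rw [U_shift]
    simpa using hv

theorem reg_six (hn : n = 6) (x : X) : Γ.Reg G x := by
  obtain ⟨y, hy, -⟩ := Γ.thick x x x
  rcases S.h_cen_or hn hy with hC | hC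
  · by_cases hp : p = 2
    · exact S.h_reg_two hn hp hC
    · refine S.reg_of_mou (S.h_mou hn hp hC) fun P hP e d hd v hv => ?_
      refine S.h_D hn hp (hP.shift (-1)) (by simpa [e] using hC) d (by rwa [S.D_shift hP.1]) v ?_
      rw [U_shift]
      simpa using hv
  · exact S.h_reg_even hn hy hC

theorem reg_eight (hn : n = 8) (h8 : ∀ x y, Γ.adj x y → IsSquare (2 * Γ.val x * Γ.val y)) (x : X) : Γ.Reg G x := by
  obtain ⟨y, hy, -⟩ := Γ.thick x x x
  have hp := S.o_two (h8 x y hy)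
  have hI := fun x => (S.r1_local hp x).1
  rcases S.o_cen_or hn hy with hC | hC
  · rcases (S.r1_local hp x).2 with h | ⟨h1, h2⟩
    · exact h
    · have h3 := h8 x y hy
      rw [h1, S.o_val hn hp hI hy hC h2] at h3
      obtain ⟨r, hr⟩ := h3
      have : r ≤ 6 := by nlinarith
      interval_cases r <;> omega
  · exact S.o_reg hn hp hI (Γ.symm hy) hC

omit S in
theorem _root_.CfsgLib.FS.Pol.Spl.reg (S : Γ.Spl G) (hn : n = 3 ∨ n = 4 ∨ n = 6 ∨ n = 8)
    (h8 : n = 8 → ∀ x y, Γ.adj x y → IsSquare (2 * Γ.val x * Γ.val y)) (x : X) : Γ.Reg G x := by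
  obtain ⟨p, T⟩ := S.exists_SP
  rcases hn with h | h | h | h
  exacts [T.reg_three h x, T.reg_four h x, T.reg_six h x, T.reg_eight h (h8 h) x]

end Pol.SP

end CfsgLib.FS
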