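import Cfsg.Agent.Lib.FS.Geo
import Cfsg.Agent.Lib.FS.Main

/-!
# The action of a split group on a rank two residue (see `plans/FS.md`)
-/

set_option autoImplicit false

namespace CfsgLib.FS
open CfsgLib.Tits CfsgLib.BN MulAction
open scoped Pointwise

variable {B W : Type*} [Group W] {E : ExchSys B W} {C : Type*} {D : Bld E C} {i j : B} {c : C}
  {G : Type*} [Group G] [MulAction G C]

/-- the panel of type `k` of `z` -/
def pan (k : B) (hk : k = i ∨ k = j) (z : C) (hz : z ∈ D.R {i, j} c) : Vx D i j c := ⟨(k, D.R {k} z), hk, z, hz, rfl⟩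

theorem Vx.mem_R (p : Vx D i j c) {z : C} (hz : z ∈ p.1.2) : z ∈ D.R {i, j} c := by
  obtain ⟨x, hx, e⟩ := p.2.2
  refine D.R_trans hx (D.R_mono ?_ x (e ▸ hz))
  rintro _ rfl
  exact p.2.1

theorem Vx.eq_R (p : Vx D i j c) {z : C} (hz : z ∈ p.1.2) : p.1.2 = D.R {p.1.1} z := by
  obtain ⟨x, -, e⟩ := p.2.2
  exact e.trans (D.R_eq (e ▸ hz)).symm

theorem Vx.ext' {p q : Vx D i j c} (h : p.1.1 = q.1.1) {z : C} (hp : z ∈ p.1.2) (hq : z ∈ q.1.2) : p = q :=
  Subtype.ext (Prod.ext h (by rw [p.eq_R hp, q.eq_R hq, h]))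

theorem Vx.unique {p q : Vx D i j c} (h : p.1.1 ≠ q.1.1) {z z' : C} (hp : z ∈ p.1.2) (hq : z ∈ q.1.2) (hp' : z' ∈ p.1.2)
    (hq' : z' ∈ q.1.2) : z' = z := by
  rw [p.eq_R hp] at hp'
  rw [q.eq_R hq] at hq'
  have : z' ∈ D.R ({p.1.1} ∩ {q.1.1}) z := D.R_inter _ _ z ▸ ⟨hp', hq'⟩
  rw [Set.singleton_inter_of_notMem (by simpa using h), D.mem_R, E.par_empty, Subgroup.mem_bot] at this
  exact (D.eq_of_δ _ _ this).symm

theorem card_vadj (h : i ≠ j) (p : Vx D i j c) : Nat.card {u // vadj p u} = Nat.card p.1.2 := by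
  classical
  have hk : ∀ u : Vx D i j c, u.1.1 ≠ p.1.1 → u.1.1 = if p.1.1 = i then j else i := fun u hu => by
    rcases p.2.1 with e | e <;> rcases u.2.1 with e' | e' <;> simp_all [h.symm]
  have ne : p.1.1 ≠ if p.1.1 = i then j else i := by
    split_ifs with e
    · rwa [e]
    · exact e
  have ho : (if p.1.1 = i then j else i) = i ∨ (if p.1.1 = i then j else i) = j := by split_ifs <;> simp
  refine (Nat.card_congr (Equiv.ofBijective (fun z : p.1.2 => (⟨pan _ ho z (p.mem_R z.2), ne, z, z.2,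
    D.self_mem_R _ _⟩ : {u // vadj p u})) ⟨fun z z' e => ?_, fun u => ?_⟩)).symm
  · have e' : D.R _ z.1 = D.R _ z'.1 := congrArg (fun u : {u // vadj p u} => u.1.1.2) e
    exact Subtype.ext (Vx.unique (p := p) (q := pan _ ho z'.1 (p.mem_R z'.2)) (z := z'.1) (z' := z.1) ne z'.2
      (D.self_mem_R _ _) z.2 (e'.subset (D.self_mem_R _ _)))
  · obtain ⟨u, hu, z, h1, h2⟩ := u
    exact ⟨⟨z, h1⟩, Subtype.ext (Vx.ext' (hk u hu.symm).symm (D.self_mem_R _ _) h2)⟩

/-- a group of automorphisms with nilpotent normal subgroups of the chamber stabilizers that are transitive on the cells -/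
structure SplB (D : Bld E C) (F : C → Subgroup G) : Prop where
  δ : ∀ (g : G) x y, D.δ (g • x) (g • y) = D.δ x y
  fix : ∀ x, ∀ f ∈ F x, f • x = x
  conj : ∀ x (g : G), g • x = x → ∀ f ∈ F x, g * f * g⁻¹ ∈ F x
  nil : ∀ x, Group.IsNilpotent (F x)
  trans : ∀ x y y', D.δ x y = D.δ x y' → ∃ f ∈ F x, f • y = y'

namespace SplB
variable {F : C → Subgroup G} (h : SplB D F)
include h

theorem mem_R (g : G) {J : Set B} {x z : C} : g • z ∈ D.R J (g • x) ↔ z ∈ D.R J x := by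
  rw [D.mem_R, h.δ, D.mem_R]

theorem smul_R (g : G) (J : Set B) (x : C) : g • D.R J x = D.R J (g • x) := by
  ext z
  rw [Set.mem_smul_set_iff_inv_smul_mem, ← h.mem_R g, smul_inv_smul]

variable (i j c) in
/-- the stabilizer of the residue -/
def PJ : Subgroup G where
  carrier := {g | g • c ∈ D.R {i, j} c}
  one_mem' := by simpa using D.self_mem_R _ _
  mul_mem' {a b} ha hb := D.R_trans ha (by rw [mul_smul]; exact (h.mem_R a).2 hb)
  inv_mem' {a} ha := D.R_symm ((h.mem_R a).1 (by rwa [smul_inv_smul]))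

theorem mem_PJ {g : G} {x : C} (hx : x ∈ D.R {i, j} c) (e : g • x = x) : g ∈ h.PJ i j c :=
  D.R_trans hx (e ▸ (h.mem_R g).2 (D.R_symm hx))

instance act : MulAction (h.PJ i j c) (Vx D i j c) where
  smul g p := ⟨(p.1.1, (g : G) • p.1.2), p.2.1, by
    obtain ⟨z, hz, e⟩ := p.2.2
    exact ⟨(g : G) • z, D.R_trans g.2 ((h.mem_R g).2 hz), by rw [e, h.smul_R]⟩⟩
  one_smul p := Subtype.ext (Prod.ext rfl (one_smul G _))
  mul_smul a b p := Subtype.ext (Prod.ext rfl (mul_smul (a : G) (b : G) _))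

variable (i j c) in
/-- the group induced on the panels -/
abbrev HH : Subgroup (Equiv.Perm (Vx D i j c)) := (toPermHom (h.PJ i j c) (Vx D i j c)).range

variable (i j c) in
/-- the projection -/
abbrev pr : h.PJ i j c →* h.HH i j c := (toPermHom (h.PJ i j c) (Vx D i j c)).rangeRestrict

theorem pr_fst (g : h.PJ i j c) (p : Vx D i j c) : (h.pr i j c g • p).1.1 = p.1.1 := rfl

theorem pr_mem (g : h.PJ i j c) {p : Vx D i j c} {z : C} (hz : z ∈ p.1.2) : (g : G) • z ∈ (h.pr i j c g • p).1.2 :=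
  Set.smul_mem_smul_set hz

theorem pr_eq (g : h.PJ i j c) {p q : Vx D i j c} (e : p.1.1 = q.1.1) {z : C} (hz : z ∈ p.1.2) (hq : (g : G) • z ∈ q.1.2) :
    h.pr i j c g • p = q := Vx.ext' e (h.pr_mem g hz) hq

theorem mem_V {p q : Vx D i j c} (ne : p.1.1 ≠ q.1.1) {x : C} (hp : x ∈ p.1.2) (hq : x ∈ q.1.2) (f : h.PJ i j c)
    (hf : (f : G) ∈ F x) : h.pr i j c f ∈ V (h.HH i j c) p q := by
  refine le_V (H := ((F x).subgroupOf (h.PJ i j c)).map (h.pr i j c)) ?_ ?_ ?_ ⟨f, hf, rfl⟩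
  · rintro _ ⟨g, hg, rfl⟩
    exact ⟨h.pr_eq g rfl hp (by rwa [h.fix x g hg]), h.pr_eq g rfl hq (by rwa [h.fix x g hg])⟩
  · rintro k h1 h2 _ ⟨g, hg, rfl⟩
    obtain ⟨k, rfl⟩ := MonoidHom.rangeRestrict_surjective _ k
    exact ⟨k * g * k⁻¹, h.conj x k (Vx.unique ne hp hq (h1 ▸ h.pr_mem k hp) (h2 ▸ h.pr_mem k hq)) g hg, by simp⟩
  · haveI := h.nil x
    haveI : Group.IsNilpotent ((F x).subgroupOf (h.PJ i j c)) :=
      Group.nilpotent_of_mulEquiv (Subgroup.subgroupOfEquivOfLe fun g hg => h.mem_PJ (p.mem_R hp) (h.fix x g hg)).symm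
    exact Group.nilpotent_of_surjective _ (MonoidHom.subgroupMap_surjective _ _)

variable [Finite W]

theorem spl (hij : i ≠ j) (h3 : 3 ≤ E.mat i j) : (pol D c hij h3).Spl (h.HH i j c) where
  smul g x y := by
    obtain ⟨g, rfl⟩ := MonoidHom.rangeRestrict_surjective _ g
    rintro ⟨ne, z, h1, h2⟩
    exact ⟨ne, _, h.pr_mem g h1, h.pr_mem g h2⟩
  faith g hg := Subtype.ext (Equiv.ext hg)
  trans0 P R hP hR e0 e1 := by
    obtain ⟨ne, x, x0, x1⟩ := hP.1 0
    obtain ⟨-, y, y0, y1⟩ := hP.1 (E.mat i j : ℕ)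
    obtain ⟨-, y', y0', y1'⟩ := hR.1 (E.mat i j : ℕ)
    rw [zero_add] at ne x1
    obtain ⟨f, hf, e⟩ := h.trans x y y' ((vadj_opp hij P hP x0 x1 y0 y1).trans
      (vadj_opp hij R hR (e0 ▸ x0) (e1 ▸ x1) y0' y1').symm)
    have ty : ∀ k : ℕ, (P k).1.1 = (R k).1.1 := fun k => by
      induction k with
      | zero => exact congrArg (·.1.1) e0
      | succ k ih =>
        have a := (hP.1 k).1
        have b := (hR.1 k).1
        push_cast
        rcases (P k).2.1 with e1 | e1 <;> rcases (P (k + 1)).2.1 with e2 | e2 <;>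
          rcases (R (k + 1)).2.1 with e3 | e3 <;> simp_all
    exact ⟨_, h.mem_V ne x0 x1 ⟨f, h.mem_PJ ((P 0).mem_R x0) (h.fix x f hf)⟩ hf, h.pr_eq _ (ty _) y0 (e ▸ y0'),
      h.pr_eq _ (by exact_mod_cast ty (_ + 1)) y1 (e ▸ y1')⟩

theorem fix_panel [Finite G] (hij : i ≠ j) (hn : E.mat i j = 3 ∨ E.mat i j = 4 ∨ E.mat i j = 6 ∨ E.mat i j = 8)
    (h8 : E.mat i j = 8 → ∀ x, IsSquare (2 * (Nat.card (D.R {i} x) - 1) * (Nat.card (D.R {j} x) - 1))) {f : G}
    (hf : f ∈ F c) {y : C} (hy : D.δ c y = E.s i) (e : f • y = y) : ∀ z ∈ D.R {i} c, f • z = z := by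
  have h3 : 3 ≤ E.mat i j := by omega
  have m : ∀ {z}, z ∈ D.R {i} c → z ∈ D.R {i, j} c := fun hz => D.R_mono (by simp) c hz
  have hy' : y ∈ D.R {i} c := D.mem_R_singleton.2 (Or.inr hy)
  have c0 := D.self_mem_R {i} c
  have adj : ∀ {z} (hz : z ∈ D.R {i} c), vadj (pan i (Or.inl rfl) c (m c0)) (pan j (Or.inr rfl) z (m hz)) :=
    fun hz => ⟨hij, _, hz, D.self_mem_R _ _⟩
  haveI : Finite (h.HH i j c) := Finite.of_surjective _ (MonoidHom.rangeRestrict_surjective _)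
  have r := (h.spl (c := c) hij h3).reg hn (fun h8' p q ⟨ne, z, hp, hq⟩ => ?_) (pan i (Or.inl rfl) c (m c0))
  · let f' : h.PJ i j c := ⟨f, h.mem_PJ (m c0) (h.fix c f hf)⟩
    have q := r _ _ (adj c0) (adj hy') (fun e' => ?_) _ (h.mem_V hij c0 (D.self_mem_R _ _) f' hf)
      (h.pr_eq f' rfl (D.self_mem_R _ _) (by change f • y ∈ _; rw [e]; exact D.self_mem_R _ _))
    · intro z hz
      have a := h.pr_mem f' (p := pan j (Or.inr rfl) z (m hz)) (D.self_mem_R _ _)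
      rw [Pol.Q_fix_nbr q (adj hz)] at a
      refine Vx.unique (adj hz).1 hz (D.self_mem_R _ _) ?_ a
      rw [← h.mem_R f, h.fix c f hf] at hz
      exact hz
    · have := Vx.unique (adj c0).1 c0 (D.self_mem_R _ _) hy' (e' ▸ D.self_mem_R _ _)
      rw [this, D.δ_self] at hy
      exact E.s_ne_one i hy.symm
  · have v : ∀ p : Vx D i j c, (pol D c hij h3).val p = Nat.card p.1.2 - 1 := fun p => congrArg (· - 1) (card_vadj hij p)
    rw [v, v, p.eq_R hp, q.eq_R hq]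
    have := h8 h8' z
    rcases p.2.1 with e1 | e1 <;> rcases q.2.1 with e2 | e2 <;> rw [e1, e2] at ne ⊢
    exacts [absurd rfl ne, this, by rwa [mul_right_comm], absurd rfl ne]

end SplB

end CfsgLib.FS
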